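import Groth.Agent.H95.TopInv.Local
import Mathlib.AlgebraicGeometry.Gluing
import Mathlib.AlgebraicGeometry.Morphisms.OpenImmersion

/-!
# Topological invariance of étale morphisms: global lifts
-/

set_option autoImplicit false
universe u

open CategoryTheory CategoryTheory.Limits AlgebraicGeometry TopologicalSpace

namespace Groth.Agent.H95.TopInv

variable {S₀ S W₀ : Scheme.{u}} (i : S₀ ⟶ S) [IsClosedImmersion i] [Surjective i] (π₀ : W₀ ⟶ S₀)

/-- a lift of an open of `W₀` -/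
structure Lift (O : W₀.Opens) where
  V : Scheme.{u}
  g : V ⟶ S
  j : (O : Scheme.{u}) ⟶ V
  etale : Etale g
  pb : IsPullback j (O.ι ≫ π₀) g i

variable {i π₀}

lemma Lift.closed {O : W₀.Opens} (L : Lift i π₀ O) : IsClosedImmersion L.j :=
  MorphismProperty.of_isPullback (P := @IsClosedImmersion) L.pb.flip ‹_›

lemma Lift.surjective {O : W₀.Opens} (L : Lift i π₀ O) : Surjective L.j :=
  MorphismProperty.of_isPullback (P := @Surjective) L.pb.flip ‹_›

lemma Lift.mono {O O' : W₀.Opens} (h : O' ≤ O) (L : Lift i π₀ O) : Nonempty (Lift i π₀ O') := by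
  haveI := L.etale
  haveI := L.closed
  haveI := L.surjective
  let V' : L.V.Opens := ⟨L.j '' Set.range (W₀.homOfLE h),
    (isHomeomorph L.j).isOpenMap _ (W₀.homOfLE h).opensRange.isOpen⟩
  have hr : Set.range (W₀.homOfLE h ≫ L.j) ⊆ Set.range V'.ι := by
    rw [Scheme.Opens.range_ι]
    rintro _ ⟨o, rfl⟩
    exact ⟨W₀.homOfLE h o, ⟨o, rfl⟩, rfl⟩
  let j' : (O' : Scheme.{u}) ⟶ V' := IsOpenImmersion.lift V'.ι (W₀.homOfLE h ≫ L.j) hr
  have hj' : j' ≫ V'.ι = W₀.homOfLE h ≫ L.j := IsOpenImmersion.lift_fac _ _ _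
  have hsq : IsPullback j' (W₀.homOfLE h) V'.ι L.j := by
    refine IsOpenImmersion.isPullback _ _ _ _ hj'.symm ?_
    rw [Scheme.Opens.opensRange_ι]
    apply Opens.ext
    exact Set.preimage_image_eq _ L.j.isClosedEmbedding.injective
  exact ⟨⟨V', V'.ι ≫ L.g, j', inferInstance, by
    have := hsq.paste_vert L.pb
    rwa [← Category.assoc, Scheme.homOfLE_ι] at this⟩⟩

variable (i π₀)

/-- the liftable opens -/
abbrev LIdx : Type u := {O : W₀.Opens // Nonempty (Lift i π₀ O)}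

variable {i π₀}

noncomputable def lift (O : LIdx i π₀) : Lift i π₀ O.1 := O.2.some

instance (O : LIdx i π₀) : Etale (lift O).g := (lift O).etale

instance (O : LIdx i π₀) : IsClosedImmersion (lift O).j := (lift O).closed

instance (O : LIdx i π₀) : Surjective (lift O).j := (lift O).surjective

lemma exists_tr {O' O : LIdx i π₀} (h : O' ≤ O) :
    ∃ φ : (lift O').V ⟶ (lift O).V,
      (lift O').j ≫ φ = W₀.homOfLE h ≫ (lift O).j ∧ φ ≫ (lift O).g = (lift O').g :=
  exists_hom _ _ _ _ (by rw [(lift O').pb.w, Category.assoc, Category.assoc, (lift O).pb.w]; simp)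

/-- transition maps -/
noncomputable def tr {O' O : LIdx i π₀} (h : O' ≤ O) : (lift O').V ⟶ (lift O).V := (exists_tr h).choose

lemma j_tr {O' O : LIdx i π₀} (h : O' ≤ O) :
    (lift O').j ≫ tr h = W₀.homOfLE h ≫ (lift O).j := (exists_tr h).choose_spec.1

lemma tr_g {O' O : LIdx i π₀} (h : O' ≤ O) : tr h ≫ (lift O).g = (lift O').g :=
  (exists_tr h).choose_spec.2

instance {O' O : LIdx i π₀} (h : O' ≤ O) : IsOpenImmersion (tr h) := by
  haveI : Etale (tr h ≫ (lift O).g) := by rw [tr_g]; infer_instance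
  haveI : Etale (tr h) := Etale.of_comp _ (lift O).g
  haveI : Mono ((lift O').j ≫ tr h) := by rw [j_tr]; infer_instance
  exact isOpenImmersion_of_comp_mono (lift O').j _

variable (i π₀)

/-- the diagram of lifts -/
noncomputable def diagram : LIdx i π₀ ⥤ Scheme.{u} where
  obj O := (lift O).V
  map f := tr (leOfHom f)
  map_id O := hom_ext (lift O).g (lift O).j (by rw [j_tr]; simp) (by rw [tr_g]; simp)
  map_comp {O₁ O₂ O₃} f g := hom_ext (lift O₃).g (lift O₁).j
    (by rw [j_tr, reassoc_of% (j_tr (leOfHom f)), j_tr]; simp)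
    (by rw [tr_g, Category.assoc, tr_g, tr_g])

instance {O' O : LIdx i π₀} (f : O' ⟶ O) : IsOpenImmersion ((diagram i π₀).map f) :=
  inferInstanceAs (IsOpenImmersion (tr _))

lemma j_map_apply {O' O : LIdx i π₀} (f : O' ⟶ O) (o : O'.1) :
    (diagram i π₀).map f ((lift O').j o) = (lift O).j ⟨o.1, (leOfHom f) o.2⟩ := by
  change ((lift O').j ≫ tr (leOfHom f)) o = _
  rw [j_tr]
  change (lift O).j (W₀.homOfLE (leOfHom f) o) = _
  congr 1
  exact Subtype.ext (Scheme.homOfLE_apply (leOfHom f) o)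

lemma eq_of_j_eq {O₁ O₂ O : LIdx i π₀} (f₁ : O₁ ⟶ O) (f₂ : O₂ ⟶ O) (o₁ : O₁.1) (o₂ : O₂.1)
    (h : (diagram i π₀).map f₁ ((lift O₁).j o₁) = (diagram i π₀).map f₂ ((lift O₂).j o₂)) :
    o₁.1 = o₂.1 := by
  rw [j_map_apply, j_map_apply] at h
  exact congrArg Subtype.val ((lift O).j.isClosedEmbedding.injective h)

instance : (diagram i π₀ ⋙ Scheme.forget).IsLocallyDirected where
  cond {O₁ O₂ O} fi fj xi xj heq := by
    obtain ⟨oi, rfl⟩ := (lift O₁).j.surjective xi
    obtain ⟨oj, rfl⟩ := (lift O₂).j.surjective xj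
    have h := eq_of_j_eq i π₀ fi fj oi oj heq
    obtain ⟨o, ho⟩ := oi
    obtain ⟨o', ho'⟩ := oj
    dsimp at h
    subst h
    let l : LIdx i π₀ := ⟨O₁.1 ⊓ O₂.1, Lift.mono inf_le_left (lift O₁)⟩
    have hl₁ : l ≤ O₁ := inf_le_left (a := O₁.1) (b := O₂.1)
    have hl₂ : l ≤ O₂ := inf_le_right (a := O₁.1) (b := O₂.1)
    refine ⟨l, homOfLE hl₁, homOfLE hl₂, (lift l).j ⟨o, ho, ho'⟩, ?_, ?_⟩
    · exact j_map_apply i π₀ _ _
    · exact j_map_apply i π₀ _ _

variable [Etale π₀]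

lemma iSup_eq_top : IsOpenCover (fun O : LIdx i π₀ => O.1) := by
  apply Opens.ext
  refine Set.eq_univ_of_forall fun w => ?_
  obtain ⟨O, hw, V, g, j, hg, hpb⟩ := exists_local_lift i π₀ w
  exact Opens.mem_iSup.2 ⟨⟨O, ⟨⟨V, g, j, hg, hpb⟩⟩⟩, hw⟩

/-- the glued lift -/
noncomputable def glued : Scheme.{u} := colimit (diagram i π₀)

noncomputable def gluedι (O : LIdx i π₀) : (lift O).V ⟶ glued i π₀ := colimit.ι (diagram i π₀) O

instance (O : LIdx i π₀) : IsOpenImmersion (gluedι i π₀ O) :=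
  inferInstanceAs (IsOpenImmersion (colimit.ι (diagram i π₀) O))

/-- structure map -/
noncomputable def gluedHom : glued i π₀ ⟶ S :=
  colimit.desc (diagram i π₀) ⟨S, { app := fun O => (lift O).g
                                    naturality := fun _ _ f => (tr_g (leOfHom f)).trans (Category.comp_id _).symm }⟩

lemma gluedι_hom (O : LIdx i π₀) : gluedι i π₀ O ≫ gluedHom i π₀ = (lift O).g := colimit.ι_desc _ _

lemma tr_gluedι {O' O : LIdx i π₀} (h : O' ≤ O) : tr h ≫ gluedι i π₀ O = gluedι i π₀ O' :=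
  colimit.w (diagram i π₀) (homOfLE h)

lemma exists_map : ∃ jW : W₀ ⟶ glued i π₀,
    ∀ O : LIdx i π₀, O.1.ι ≫ jW = (lift O).j ≫ gluedι i π₀ O := by
  let 𝒰 := W₀.openCoverOfIsOpenCover (fun O : LIdx i π₀ => O.1) (iSup_eq_top i π₀)
  refine ⟨𝒰.glueMorphisms (fun O => (lift O).j ≫ gluedι i π₀ O) ?_, fun O => 𝒰.ι_glueMorphisms _ _ O⟩
  intro (O : LIdx i π₀) (O' : LIdx i π₀)
  let l : LIdx i π₀ := ⟨O.1 ⊓ O'.1, Lift.mono inf_le_left (lift O)⟩
  have hl₁ : l ≤ O := inf_le_left (a := O.1) (b := O'.1)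
  have hl₂ : l ≤ O' := inf_le_right (a := O.1) (b := O'.1)
  let p := pullback.fst O.1.ι O'.1.ι
  let p' := pullback.snd O.1.ι O'.1.ι
  have hr : Set.range (p ≫ O.1.ι) ⊆ Set.range l.1.ι := by
    rw [Scheme.Opens.range_ι]
    rintro _ ⟨z, rfl⟩
    refine ⟨(p z).2, ?_⟩
    rw [show p ≫ O.1.ι = p' ≫ O'.1.ι from pullback.condition]
    exact (p' z).2
  let m := IsOpenImmersion.lift l.1.ι (p ≫ O.1.ι) hr
  have hm : m ≫ l.1.ι = p ≫ O.1.ι := IsOpenImmersion.lift_fac _ _ _
  have hp : m ≫ W₀.homOfLE hl₁ = p := by rw [← cancel_mono O.1.ι, Category.assoc, Scheme.homOfLE_ι, hm]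
  have hp' : m ≫ W₀.homOfLE hl₂ = p' := by
    rw [← cancel_mono O'.1.ι, Category.assoc, Scheme.homOfLE_ι, hm]
    exact pullback.condition
  change p ≫ (lift O).j ≫ gluedι i π₀ O = p' ≫ (lift O').j ≫ gluedι i π₀ O'
  rw [← hp, ← hp', Category.assoc, Category.assoc, ← reassoc_of% (j_tr hl₁), ← reassoc_of% (j_tr hl₂),
    tr_gluedι, tr_gluedι]

/-- topological invariance: étale schemes lift along surjective closed immersions -/
theorem exists_lift : ∃ (W : Scheme.{u}) (g : W ⟶ S) (jW : W₀ ⟶ W), Etale g ∧ IsPullback jW π₀ g i := by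
  obtain ⟨jW, hjW⟩ := exists_map i π₀
  let g := gluedHom i π₀
  have hcomp : ∀ O : LIdx i π₀, gluedι i π₀ O ≫ g = (lift O).g := gluedι_hom i π₀
  haveI hg : Etale g := by
    haveI : IsZariskiLocalAtSource (@Etale : MorphismProperty Scheme.{u}) :=
      HasRingHomProperty.instIsZariskiLocalAtSource (Q := RingHom.Etale)
    refine IsZariskiLocalAtSource.of_openCover (P := (@Etale : MorphismProperty Scheme.{u}))
      (Scheme.IsLocallyDirected.openCover (diagram i π₀)) fun (O : LIdx i π₀) => ?_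
    change Etale (gluedι i π₀ O ≫ g)
    rw [hcomp]
    infer_instance
  have hw : jW ≫ g = π₀ ≫ i := by
    refine Scheme.Cover.hom_ext (W₀.openCoverOfIsOpenCover _ (iSup_eq_top i π₀)) _ _ fun (O : LIdx i π₀) => ?_
    change O.1.ι ≫ jW ≫ g = O.1.ι ≫ π₀ ≫ i
    rw [reassoc_of% (hjW O), hcomp, (lift O).pb.w, Category.assoc]
  let c : W₀ ⟶ pullback g i := pullback.lift jW π₀ hw
  have hinj : Function.Injective jW := by
    intro a b hab
    obtain ⟨O, ha⟩ := (iSup_eq_top i π₀).exists_mem a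
    obtain ⟨O', hb⟩ := (iSup_eq_top i π₀).exists_mem b
    have h : colimit.ι (diagram i π₀) O ((lift O).j ⟨a, ha⟩) =
        colimit.ι (diagram i π₀) O' ((lift O').j ⟨b, hb⟩) := by
      change ((lift O).j ≫ gluedι i π₀ O) ⟨a, ha⟩ = ((lift O').j ≫ gluedι i π₀ O') ⟨b, hb⟩
      rw [← hjW, ← hjW]
      exact hab
    obtain ⟨k, fi, fj, x, hx, hx'⟩ := (Scheme.IsLocallyDirected.ι_eq_ι_iff _).1 h
    obtain ⟨o, rfl⟩ := (lift k).j.surjective x
    have h1 := congrArg Subtype.val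
      ((lift O).j.isClosedEmbedding.injective ((j_map_apply i π₀ fi o).symm.trans hx))
    have h2 := congrArg Subtype.val
      ((lift O').j.isClosedEmbedding.injective ((j_map_apply i π₀ fj o).symm.trans hx'))
    exact h1.symm.trans h2
  have hsurj : Function.Surjective jW := by
    intro x
    obtain ⟨O, y, rfl⟩ := Scheme.IsLocallyDirected.ι_jointly_surjective (diagram i π₀) x
    obtain ⟨o, rfl⟩ := (lift O).j.surjective y
    exact ⟨O.1.ι o, congr($(hjW O) o)⟩
  have hc : c ≫ pullback.fst g i = jW := pullback.lift_fst _ _ _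
  haveI : IsOpenImmersion c := by
    refine IsOpenImmersion.of_openCover_source c (W₀.openCoverOfIsOpenCover _ (iSup_eq_top i π₀))
      (fun a b hab => hinj ?_) fun (O : LIdx i π₀) => ?_
    · rw [← hc, Scheme.Hom.comp_apply, Scheme.Hom.comp_apply, hab]
    · change IsOpenImmersion (O.1.ι ≫ c)
      have h1 : IsPullback (lift O).j ((O.1.ι ≫ c) ≫ pullback.snd g i) (gluedι i π₀ O ≫ g) i := by
        rw [Category.assoc, pullback.lift_snd, hcomp]
        exact (lift O).pb
      have h2 := IsPullback.of_bot h1 (by rw [Category.assoc, hc, hjW]) (IsPullback.of_hasPullback g i)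
      exact MorphismProperty.of_isPullback (P := @IsOpenImmersion) h2 inferInstance
  haveI : IsIso c := isIso_of_surjective c fun z => by
    obtain ⟨a, ha⟩ := hsurj (pullback.fst g i z)
    refine ⟨a, (pullback.fst g i).isClosedEmbedding.injective ?_⟩
    rw [← Scheme.Hom.comp_apply, hc, ha]
  exact ⟨_, g, jW, hg, IsPullback.of_iso_pullback ⟨hw⟩ (asIso c) hc (pullback.lift_snd _ _ _)⟩

end Groth.Agent.H95.TopInv
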