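import Mathlib.AlgebraicGeometry.Morphisms.Etale
import Mathlib.AlgebraicGeometry.Morphisms.ClosedImmersion
import Groth.Agent.Lib.Unram.EtaleMono

/-!
# Topological invariance of étale morphisms: morphisms
-/

set_option autoImplicit false
universe u

open CategoryTheory CategoryTheory.Limits AlgebraicGeometry

namespace Groth.Agent.H95.TopInv

/-- a surjective closed immersion is a homeomorphism -/
lemma isHomeomorph {X Y : Scheme.{u}} (f : X ⟶ Y) [IsClosedImmersion f] [Surjective f] :
    IsHomeomorph f.base :=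
  isHomeomorph_iff_continuous_isClosedMap_bijective.2
    ⟨f.continuous, f.isClosedEmbedding.isClosedMap, f.isClosedEmbedding.injective, f.surjective⟩

/-- an étale morphism inducing a monomorphism on a surjective cover is an open immersion -/
lemma isOpenImmersion_of_comp_mono {W V Y : Scheme.{u}} (s : W ⟶ V) (φ : V ⟶ Y) [Surjective s]
    [Etale φ] [Mono (s ≫ φ)] : IsOpenImmersion φ :=
  haveI := Lib.Unram.EtaleMono.surjective_diagonal_of_comp s φ
  Lib.Unram.EtaleMono.isOpenImmersion_of_surjective_diagonal φ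

lemma isIso_of_surjective {X Y : Scheme.{u}} (f : X ⟶ Y) [IsOpenImmersion f] (h : Function.Surjective f) :
    IsIso f :=
  isIso_of_isOpenImmersion_of_opensRange_eq_top f (TopologicalSpace.Opens.ext (Set.range_eq_univ.2 h))

/-- maps into an unramified scheme agree if they agree after a surjection -/
theorem hom_ext {X S Y₀ Y : Scheme.{u}} (f : X ⟶ S) [FormallyUnramified f] [LocallyOfFiniteType f]
    (π : Y₀ ⟶ Y) [Surjective π] {φ ψ : Y ⟶ X} (h : π ≫ φ = π ≫ ψ) (h' : φ ≫ f = ψ ≫ f) : φ = ψ := by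
  let d := pullback.diagonal f
  let l : Y ⟶ pullback f f := pullback.lift φ ψ h'
  let m : Y₀ ⟶ pullback l d := pullback.lift π (π ≫ φ) (by
    apply pullback.hom_ext
    · rw [Category.assoc, Category.assoc, pullback.lift_fst]
      erw [pullback.diagonal_fst, Category.comp_id]
    · rw [Category.assoc, Category.assoc, pullback.lift_snd]
      erw [pullback.diagonal_snd, Category.comp_id]
      exact h.symm)
  have hm : m ≫ pullback.fst l d = π := pullback.lift_fst _ _ _
  have : IsIso (pullback.fst l d) := isIso_of_surjective _ fun y => by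
    obtain ⟨y₀, rfl⟩ := π.surjective y
    exact ⟨m y₀, by rw [← Scheme.Hom.comp_apply, hm]⟩
  have h1 : pullback.fst l d ≫ φ = pullback.snd l d := by
    have := congrArg (· ≫ pullback.fst f f) (pullback.condition (f := l) (g := d))
    rw [Category.assoc, Category.assoc, pullback.lift_fst] at this
    exact this.trans (by erw [pullback.diagonal_fst, Category.comp_id])
  have h2 : pullback.fst l d ≫ ψ = pullback.snd l d := by
    have := congrArg (· ≫ pullback.snd f f) (pullback.condition (f := l) (g := d))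
    rw [Category.assoc, Category.assoc, pullback.lift_snd] at this
    exact this.trans (by erw [pullback.diagonal_snd, Category.comp_id])
  rw [← cancel_epi (pullback.fst l d), h1, h2]

/-- maps into an étale scheme extend uniquely along a surjective closed immersion -/
theorem exists_hom {X S Y₀ Y : Scheme.{u}} (f : X ⟶ S) [Etale f]
    (π : Y₀ ⟶ Y) [IsClosedImmersion π] [Surjective π] (a : Y₀ ⟶ X) (b : Y ⟶ S)
    (w : π ≫ b = a ≫ f) : ∃ l : Y ⟶ X, π ≫ l = a ∧ l ≫ f = b := by
  let s₀ : Y₀ ⟶ pullback f b := pullback.lift a π w.symm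
  let πP := pullback.fst (pullback.snd f b) π
  let σ : Y₀ ⟶ pullback (pullback.snd f b) π := pullback.lift s₀ (𝟙 Y₀) ((pullback.lift_snd _ _ _).trans (Category.id_comp _).symm)
  haveI : Etale (σ ≫ pullback.snd (pullback.snd f b) π) := by
    rw [show σ ≫ pullback.snd (pullback.snd f b) π = 𝟙 Y₀ from pullback.lift_snd _ _ _]
    infer_instance
  haveI : Etale σ := Etale.of_comp σ (pullback.snd (pullback.snd f b) π)
  haveI : IsSplitMono σ := IsSplitMono.mk' ⟨pullback.snd _ _, pullback.lift_snd _ _ _⟩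
  haveI : IsOpenImmersion σ := IsOpenImmersion.of_flat_of_mono σ
  have hπP : IsHomeomorph πP.base := by
    haveI : IsClosedImmersion πP := inferInstance
    haveI : Surjective πP := inferInstance
    exact isHomeomorph πP
  let O : (pullback f b).Opens := ⟨πP '' Set.range σ, hπP.isOpenMap _ σ.opensRange.isOpen⟩
  have hs₀ : σ ≫ πP = s₀ := pullback.lift_fst _ _ _
  have hsO : Set.range s₀ ⊆ Set.range O.ι := by
    rw [Scheme.Opens.range_ι]
    rintro _ ⟨y, rfl⟩
    exact ⟨σ y, ⟨y, rfl⟩, by rw [← Scheme.Hom.comp_apply, hs₀]⟩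
  let s : Y₀ ⟶ O := IsOpenImmersion.lift O.ι s₀ hsO
  have hs : s ≫ O.ι = s₀ := IsOpenImmersion.lift_fac _ _ _
  haveI : Surjective s := ⟨fun o => by
    obtain ⟨_, ⟨y, rfl⟩, hy⟩ := o.2
    refine ⟨y, O.ι.isOpenEmbedding.injective ?_⟩
    rw [← Scheme.Hom.comp_apply, hs, ← hs₀, Scheme.Hom.comp_apply]
    exact hy⟩
  let q : (O : Scheme.{u}) ⟶ Y := O.ι ≫ pullback.snd f b
  have hsq : s ≫ q = π := by rw [reassoc_of% hs]; exact pullback.lift_snd _ _ _
  haveI : Etale q := by
    haveI : Etale (pullback.snd f b) := inferInstance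
    infer_instance
  haveI : Mono (s ≫ q) := hsq ▸ inferInstance
  haveI : IsOpenImmersion q := isOpenImmersion_of_comp_mono s q
  haveI : IsIso q := isIso_of_surjective q fun y => by
    obtain ⟨y₀, rfl⟩ := π.surjective y
    exact ⟨s y₀, by rw [← Scheme.Hom.comp_apply, hsq]⟩
  refine ⟨inv q ≫ O.ι ≫ pullback.fst f b, ?_, ?_⟩
  · rw [← hsq, Category.assoc, IsIso.hom_inv_id_assoc, reassoc_of% hs]
    exact pullback.lift_fst _ _ _
  · rw [Category.assoc, Category.assoc, pullback.condition, IsIso.inv_comp_eq]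
    simp [q]

theorem existsUnique_hom {X S Y₀ Y : Scheme.{u}} (f : X ⟶ S) [Etale f]
    (π : Y₀ ⟶ Y) [IsClosedImmersion π] [Surjective π] (a : Y₀ ⟶ X) (b : Y ⟶ S)
    (w : π ≫ b = a ≫ f) : ∃! l : Y ⟶ X, π ≫ l = a ∧ l ≫ f = b := by
  obtain ⟨l, h⟩ := exists_hom f π a b w
  exact ⟨l, h, fun l' h' => hom_ext f π (h'.1.trans h.1.symm) (h'.2.trans h.2.symm)⟩

end Groth.Agent.H95.TopInv
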