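import Groth.Agent.H95.TopInv.Glue
import Groth.Agent.Lib.W2Lift.Basic
import Groth.Prelude.Def_Frob
import Mathlib.RingTheory.Spectrum.Prime.Homeomorph

/-!
# Frobenius liftings ascend along étale morphisms
-/

set_option autoImplicit false
universe u

open CategoryTheory CategoryTheory.Limits AlgebraicGeometry

namespace Groth.Agent.H95.TopInv

theorem res_surjective (p : ℕ) [Fact p.Prime] (k : Type u) [CommRing k] :
    Function.Surjective (FrobAlg.res p k) := fun x =>
  ⟨WittVector.truncate 2 (WittVector.teichmuller p x),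
    (FrobAlg.res_truncate p k _).trans (WittVector.teichmuller_coeff_zero p x)⟩

theorem exists_frobLift (p : ℕ) [Fact p.Prime] {k : Type u} [Field k] [CharP k p] [PerfectField k]
    {X Y : Scheme.{u}} (q : Y ⟶ X) [Etale q] (f : X ⟶ Spec (CommRingCat.of k))
    [FrobSch.IsCharP X p] [FrobSch.IsCharP Y p]
    {Xl : Scheme.{u}} (g : Xl ⟶ Spec (CommRingCat.of (FrobAlg.W2 p k))) [Flat g]
    {i : X ⟶ Xl} (hsq : IsPullback i f g (Spec.map (CommRingCat.ofHom (FrobAlg.res p k))))
    (Fl : Xl ⟶ Xl) (hF : i ≫ Fl = FrobSch.frob X p ≫ i) :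
    ∃ (Yl : Scheme.{u}) (gY : Yl ⟶ Spec (CommRingCat.of (FrobAlg.W2 p k))) (j : Y ⟶ Yl) (Gl : Yl ⟶ Yl),
      Flat gY ∧ IsPullback j (q ≫ f) gY (Spec.map (CommRingCat.ofHom (FrobAlg.res p k))) ∧
        j ≫ Gl = FrobSch.frob Y p ≫ j := by
  haveI : PerfectRing k p := PerfectField.toPerfectRing p
  haveI : IsClosedImmersion (Spec.map (CommRingCat.ofHom (FrobAlg.res p k))) :=
    IsClosedImmersion.spec_of_surjective _ (res_surjective p k)
  haveI : Surjective (Spec.map (CommRingCat.ofHom (FrobAlg.res p k))) := by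
    refine ⟨(PrimeSpectrum.isHomeomorph_comap (FrobAlg.res p k) ?_ ?_).surjective⟩
    · exact fun x => ⟨1, one_pos, by simpa using res_surjective p k x⟩
    · rw [Lib.W2Lift.Basic.ker_res, Ideal.span_singleton_le_iff_mem]
      exact ⟨2, by rw [sq]; exact Lib.W2Lift.Basic.p_mul_p (CharP.cast_eq_zero k p)⟩
  haveI : IsClosedImmersion i := MorphismProperty.of_isPullback (P := @IsClosedImmersion) hsq.flip ‹_›
  haveI : Surjective i := MorphismProperty.of_isPullback (P := @Surjective) hsq.flip ‹_›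
  obtain ⟨Yl, h, j, hh, hpb⟩ := exists_lift i q
  haveI : IsClosedImmersion j := MorphismProperty.of_isPullback (P := @IsClosedImmersion) hpb.flip ‹_›
  haveI : Surjective j := MorphismProperty.of_isPullback (P := @Surjective) hpb.flip ‹_›
  obtain ⟨Gl, hG, -⟩ := exists_hom h j (FrobSch.frob Y p ≫ j) (h ≫ Fl) (by
    rw [reassoc_of% hpb.w, hF, Category.assoc, hpb.w, ← FrobSch.frob_comp_assoc])
  exact ⟨Yl, h ≫ g, j, Gl, inferInstance, hpb.paste_vert hsq, hG⟩

end Groth.Agent.H95.TopInv
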