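import Groth.Agent.H95.TopInv.Hom
import Mathlib.RingTheory.Etale.StandardEtale
import Mathlib.RingTheory.Unramified.LocalStructure
import Mathlib.Algebra.Polynomial.Lifts
import Mathlib.AlgebraicGeometry.Pullbacks

/-!
# Topological invariance of étale morphisms: local lifts
-/

set_option autoImplicit false
universe u

open CategoryTheory CategoryTheory.Limits AlgebraicGeometry Polynomial TensorProduct

namespace Groth.Agent.H95.TopInv

/-- standard étale algebras lift along surjections -/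
theorem exists_ring_lift (A A₀ : Type u) [CommRing A] [CommRing A₀] [Algebra A A₀]
    (hs : Function.Surjective (algebraMap A A₀)) (C : Type u) [CommRing C] [Algebra A₀ C]
    [Algebra.IsStandardEtale A₀ C] :
    ∃ (B : Type u) (_ : CommRing B) (_ : Algebra A B) (_ : Algebra.Etale A B) (e : A₀ ⊗[A] B ≃ₐ[A₀] C),
      True := by
  obtain ⟨Q⟩ := Algebra.IsStandardEtale.nonempty_standardEtalePresentation (R := A₀) (S := C)
  have hp : Function.Surjective (Polynomial.map (algebraMap A A₀)) := Polynomial.map_surjective _ hs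
  obtain ⟨F, hFf, -, hF⟩ := Polynomial.lifts_and_natDegree_eq_and_monic
    ((Polynomial.mem_lifts _).2 (hp Q.P.f)) Q.P.monic_f
  obtain ⟨G, hG⟩ := hp Q.P.g
  let P' : StandardEtalePair A := ⟨F, hF, G * derivative F, G, 0, 1, by ring⟩
  letI : Algebra A C := Algebra.compHom C (algebraMap A A₀)
  haveI : IsScalarTower A A₀ C := IsScalarTower.of_algebraMap_eq fun _ => rfl
  let x' : A₀ ⊗[A] P'.Ring := Algebra.TensorProduct.includeRight P'.X
  have hx : P'.HasMap x' := P'.hasMap_X.map _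
  have hx' : Q.P.HasMap x' := by
    refine ⟨?_, ?_⟩
    · rw [← hFf, Polynomial.aeval_map_algebraMap]
      exact hx.1
    · rw [← hG, Polynomial.aeval_map_algebraMap]
      have h2 := hx.2
      rw [show P'.g = G * derivative F from rfl, map_mul] at h2
      exact isUnit_of_mul_isUnit_left h2
  have hQ : P'.HasMap Q.x := by
    refine ⟨?_, ?_⟩
    · rw [show P'.f = F from rfl, ← Polynomial.aeval_map_algebraMap A₀, hFf]
      exact Q.hasMap.1
    · rw [show P'.g = G * derivative F from rfl, map_mul, ← Polynomial.aeval_map_algebraMap A₀,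
        hG, ← Polynomial.aeval_map_algebraMap A₀ (x := Q.x) (p := derivative F),
        ← Polynomial.derivative_map, hFf]
      exact Q.hasMap.2.mul Q.hasMap.isUnit_derivative_f
  let φ : C →ₐ[A₀] A₀ ⊗[A] P'.Ring := (Q.P.lift x' hx').comp Q.equivRing.toAlgHom
  let ψ : A₀ ⊗[A] P'.Ring →ₐ[A₀] C :=
    Algebra.TensorProduct.lift (Algebra.ofId A₀ C) (P'.lift Q.x hQ) fun _ _ => Commute.all _ _
  have h1 : ψ.comp φ = AlgHom.id A₀ C := Q.hom_ext (by simp [φ, ψ, x'])
  have h2 : φ.comp ψ = AlgHom.id A₀ (A₀ ⊗[A] P'.Ring) := by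
    apply Algebra.TensorProduct.ext
    · ext
    · refine P'.hom_ext ?_
      simp [φ, ψ, x']
  exact ⟨P'.Ring, inferInstance, inferInstance, inferInstance,
    AlgEquiv.ofAlgHom ψ φ h1 h2, trivial⟩

/-- the lift as a cartesian square -/
theorem exists_spec_lift {A A₀ C : CommRingCat.{u}} (f : A ⟶ A₀) (hs : Function.Surjective f)
    (g : A₀ ⟶ C) (hg : letI := g.hom.toAlgebra; Algebra.IsStandardEtale A₀ C) :
    ∃ (B : CommRingCat.{u}) (h : A ⟶ B) (j : Spec C ⟶ Spec B), Etale (Spec.map h) ∧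
      IsPullback j (Spec.map g) (Spec.map h) (Spec.map f) := by
  letI := g.hom.toAlgebra
  letI := f.hom.toAlgebra
  haveI := hg
  obtain ⟨B, _, _, _, e, -⟩ := exists_ring_lift A A₀ hs C
  let inr : B →+* C := e.toRingEquiv.toRingHom.comp
    (Algebra.TensorProduct.includeRight (R := A) (A := A₀) (B := B)).toRingHom
  refine ⟨CommRingCat.of B, CommRingCat.ofHom (algebraMap A B), Spec.map (CommRingCat.ofHom inr),
    (HasRingHomProperty.Spec_iff (P := @Etale)).2 (RingHom.etale_algebraMap.2 inferInstance), ?_⟩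
  have h := (CommRingCat.isPushout_tensorProduct A A₀ B).of_iso (inl' := g)
    (inr' := CommRingCat.ofHom inr) (f' := f) (g' := CommRingCat.ofHom (algebraMap A B))
    (Iso.refl _) (Iso.refl _) (Iso.refl _) e.toRingEquiv.toCommRingCatIso
    (by simp [RingHom.algebraMap_toAlgebra]) (by simp) (by ext x; exact (e.commutes x).trans rfl)
    (by simp [inr])
  exact isPullback_SpecMap_of_isPushout _ _ _ _ h.flip

/-- a point of an étale scheme over a closed subscheme has a liftable neighbourhood -/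
theorem exists_local_lift {S₀ S W₀ : Scheme.{u}} (i : S₀ ⟶ S) [IsClosedImmersion i]
    (π₀ : W₀ ⟶ S₀) [Etale π₀] (w : W₀) :
    ∃ O : W₀.Opens, w ∈ O ∧ ∃ (V : Scheme.{u}) (g : V ⟶ S) (j : (O : Scheme.{u}) ⟶ V),
      Etale g ∧ IsPullback j (O.ι ≫ π₀) g i := by
  obtain ⟨_, ⟨U, hU, rfl⟩, hwU, -⟩ :=
    S.isBasis_affineOpens.exists_subset_of_mem_open (Set.mem_univ (i (π₀ w))) isOpen_univ
  replace hU : IsAffineOpen U := hU
  have hU₀ : IsAffineOpen (i ⁻¹ᵁ U) := hU.preimage i
  obtain ⟨_, ⟨U', hU', rfl⟩, hwU', hU'le⟩ :=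
    W₀.isBasis_affineOpens.exists_subset_of_mem_open (show w ∈ ((π₀ ⁻¹ᵁ (i ⁻¹ᵁ U) : W₀.Opens) : Set W₀) from hwU)
      (π₀ ⁻¹ᵁ (i ⁻¹ᵁ U)).isOpen
  replace hU' : IsAffineOpen U' := hU'
  let a := π₀.appLE (i ⁻¹ᵁ U) U' hU'le
  letI := a.hom.toAlgebra
  haveI : Algebra.Etale Γ(S₀, i ⁻¹ᵁ U) Γ(W₀, U') :=
    RingHom.etale_algebraMap.1 (π₀.etale_appLE hU₀ hU' hU'le)
  let q := hU'.primeIdealOf ⟨w, hwU'⟩
  haveI : q.asIdeal.IsPrime := q.2
  obtain ⟨r, hr, hstd⟩ := Algebra.IsEtaleAt.exists_isStandardEtale (R := Γ(S₀, i ⁻¹ᵁ U)) q.asIdeal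
  let C := CommRingCat.of (Localization.Away r)
  let c : Γ(W₀, U') ⟶ C := CommRingCat.ofHom (algebraMap Γ(W₀, U') (Localization.Away r))
  haveI : IsOpenImmersion (Spec.map c) := .of_isLocalization r
  haveI := hU'.isOpenImmersion_fromSpec
  obtain ⟨B, h, j, hh, hsq⟩ := exists_spec_lift (i.app U) (i.app_surjective U hU) (a ≫ c) (by
    have : (a ≫ c).hom.toAlgebra = (inferInstance : Algebra Γ(S₀, i ⁻¹ᵁ U) (Localization.Away r)) :=
      Algebra.algebra_ext _ _ fun x =>
        (IsScalarTower.algebraMap_apply Γ(S₀, i ⁻¹ᵁ U) Γ(W₀, U') (Localization.Away r) x).symm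
    exact this ▸ hstd)
  have hsqU : IsPullback (Spec.map (i.app U)) hU₀.fromSpec hU.fromSpec i := by
    refine IsOpenImmersion.isPullback _ _ _ _ ?_ ?_
    · rw [Scheme.Hom.app_eq_appLE, IsAffineOpen.SpecMap_appLE_fromSpec]
    · rw [hU.opensRange_fromSpec, hU₀.opensRange_fromSpec]
  have hpaste := hsq.paste_vert hsqU
  let e := (Spec.map c ≫ hU'.fromSpec).isoOpensRange
  refine ⟨(Spec.map c ≫ hU'.fromSpec).opensRange, ?_, _, Spec.map h ≫ hU.fromSpec, e.inv ≫ j,
    inferInstance, ?_⟩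
  · obtain ⟨p, hp⟩ : q ∈ Set.range (PrimeSpectrum.comap (algebraMap Γ(W₀, U') (Localization.Away r))) :=
      (PrimeSpectrum.localization_away_comap_range (Localization.Away r) r).symm ▸ hr
    refine ⟨p, ?_⟩
    change hU'.fromSpec (PrimeSpectrum.comap (algebraMap Γ(W₀, U') (Localization.Away r)) p) = w
    rw [hp]
    exact hU'.fromSpec_primeIdealOf ⟨w, hwU'⟩
  · refine hpaste.of_iso e (Iso.refl _) (Iso.refl _) (Iso.refl _) (by simp) ?_ (by simp) (by simp)
    simp only [Iso.refl_hom, Category.comp_id, e]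
    rw [← Category.assoc, Scheme.Hom.isoOpensRange_hom_ι, Spec.map_comp, Category.assoc,
      Category.assoc]
    exact congrArg (Spec.map c ≫ ·) (IsAffineOpen.SpecMap_appLE_fromSpec π₀ hU₀ hU' hU'le)

end Groth.Agent.H95.TopInv
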