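import Groth.Agent.H95.TopInv.Glue
import Groth.Prelude.Def_EtBase

/-!
# Topological invariance of the small étale category
-/

set_option autoImplicit false
universe u

open CategoryTheory CategoryTheory.Limits AlgebraicGeometry

namespace Groth.Agent.H95.TopInv

variable {S₀ S : Scheme.{u}} (i : S₀ ⟶ S) [IsClosedImmersion i] [Surjective i]

instance bc_faithful : (EtCoh.bc i).Faithful where
  map_injective {Y X} φ ψ h := by
    haveI : Etale X.hom := X.prop
    haveI : IsClosedImmersion (pullback.fst Y.hom i) := inferInstance
    haveI : Surjective (pullback.fst Y.hom i) := inferInstance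
    refine MorphismProperty.Over.Hom.ext (hom_ext X.hom (pullback.fst Y.hom i) ?_ ?_)
    · have h2 := congrArg (fun m : (EtCoh.bc i).obj Y ⟶ (EtCoh.bc i).obj X =>
        m.left ≫ pullback.fst X.hom i) h
      exact (pullback.lift_fst _ _ _).symm.trans (h2.trans (pullback.lift_fst _ _ _))
    · rw [MorphismProperty.Over.w φ, MorphismProperty.Over.w ψ]

instance bc_full : (EtCoh.bc i).Full where
  map_surjective {Y X} χ := by
    haveI : Etale X.hom := X.prop
    haveI : IsClosedImmersion (pullback.fst Y.hom i) := inferInstance
    haveI : Surjective (pullback.fst Y.hom i) := inferInstance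
    obtain ⟨l, h1, h2⟩ := exists_hom X.hom (pullback.fst Y.hom i)
      (χ.left ≫ pullback.fst X.hom i) Y.hom 
        ((pullback.condition.trans ((congrArg (· ≫ i) (MorphismProperty.Over.w χ)).symm.trans
          (Category.assoc _ _ _))).trans ((χ.left ≫= pullback.condition.symm).trans
            (Category.assoc _ _ _).symm))
    refine ⟨MorphismProperty.Over.homMk l h2, MorphismProperty.Over.Hom.ext ?_⟩
    apply pullback.hom_ext
    · exact (pullback.lift_fst _ _ _).trans h1
    · exact (pullback.lift_snd _ _ _).trans (MorphismProperty.Over.w χ).symm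

instance bc_essSurj : (EtCoh.bc i).EssSurj where
  mem_essImage W₀ := by
    haveI : Etale W₀.hom := W₀.prop
    obtain ⟨W, g, jW, hg, h⟩ := exists_lift i W₀.hom
    refine ⟨MorphismProperty.Over.mk ⊤ g hg, ⟨MorphismProperty.Over.isoMk h.isoPullback.symm ?_⟩⟩
    exact h.isoPullback_inv_snd

theorem bc_isEquivalence : (EtCoh.bc i).IsEquivalence where

end Groth.Agent.H95.TopInv
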